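import Cfsg.Agent.N2.Tri.MatO

/-!
# N2 (S3519): triples of `S₄(q)` (helper6)
-/

set_option autoImplicit false

namespace Cfsg.Agent.N2.Tg.S4

open Cfsg Cfsg.Agent.N2.Tg.Eng

variable {N : Type} [Group N]

theorem dat_s4_3 (h : OrdDiv.Real (.psp 2 3) N) (ho : Nat.card N = 25920) :
    Tri N 2 6 5 ∧ Cj N 5 2 ∧ SC N 5 := by
  have H := (has_S (B := 32) (n := 4) (o := 51840) (rg_prime 3 (by norm_num)) (il_two 2 2 (by decide)) h (by decide +kernel)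
    [mat 3 ([1] : List (ZMod 3)) (ix2 2) [[0, 1, 2, 0], [2, 1, 0, 1], [0, 1, 0, 1], [1, 2, 2, 2]],
    mat 3 ([1] : List (ZMod 3)) (ix2 2) [[2, 0, 0, 0], [0, 1, 0, 0], [0, 0, 2, 0], [0, 1, 0, 1]]] (two_mem (by decide +kernel))).ext
    [[0], [1], [0, 0, 0], [1, 1, 1, 1, 1]]
    [[32832, 66593, 65538, 66592], [2, 32800, 2048, 32768], [65568, 34882, 32769, 34880], [2, 65568, 2048, 32768]] (by decide +kernel)
  exact ⟨H.tri [(1, 80, 78, [[0, 1, 1, 1, 0, 1], [1, 0, 1, 1, 0, 1, 1, 1, 1, 0, 1, 0, 1, 1, 1, 0, 1, 1, 0, 0, 0, 1, 0, 1, 1], [0, 1, 0, 0, 1, 1, 0, 1, 1], [1, 0, 0, 0, 0, 1, 1, 0, 0]]),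
    (1024, 27, 16, [[2, 0, 3, 1, 2, 2, 3, 1, 2, 3], [2, 3, 1, 1]]),
    (32, 8, 5, [[1, 1, 0]]),
    (32768, 3, 2, [])]
    (by norm_num) (by decide +kernel),
    H.sc [3, 0] [1, 2, 3, 3, 2, 3, 2, 1, 1, 0, 1, 1, 0, 3, 0, 1, 0] [0] [2] [1] [3] 534 865 (by norm_num) ho (by decide) (by decide)
    (by decide +kernel) (by decide +kernel) (by decide +kernel)⟩

theorem dat_s4_3J (h : OrdDiv.Real (.psp 2 3) N) :
    ∃ x y : N, x ^ 2 = 1 ∧ y ^ 4 = 1 ∧ Subgroup.closure ({x, y} : Set N) = ⊤ ∧ (x * y) ^ 9 = 1 ∧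
      IsConj (x * y) ((x * y) ^ 4) := by
  have H := (has_S (B := 32) (n := 4) (o := 51840) (rg_prime 3 (by norm_num)) (il_two 2 2 (by decide)) h (by decide +kernel)
    [mat 3 ([1] : List (ZMod 3)) (ix2 2) [[0, 2, 2, 1], [2, 2, 1, 0], [2, 0, 0, 1], [0, 2, 1, 1]],
    mat 3 ([1] : List (ZMod 3)) (ix2 2) [[1, 0, 1, 0], [1, 0, 1, 2], [1, 2, 2, 1], [1, 1, 1, 1]]] (two_mem (by decide +kernel))).ext
    [[0], [1], [0, 0, 0], [1, 1, 1]]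
    [[2112, 65602, 32802, 33793], [33825, 34816, 34849, 33856], [1056, 32801, 65601, 67586], [34850, 67617, 1026, 1058]] (by decide +kernel)
  exact H.triJ [(1, 80, 76, [[1, 0, 1, 0, 1, 0], [0, 1, 0, 0, 0, 1, 0, 1, 1, 0, 0, 1, 1, 1], [1, 0, 1, 1, 0, 1, 1, 1]]),
    (1024, 27, 20, [[1, 0, 0, 0, 0, 2, 2, 1, 0], [2, 0, 0, 1, 1, 2, 0, 1, 1]]),
    (32, 8, 5, [[1, 0, 1, 0, 1]]),
    (32768, 3, 2, [])]
    [2, 3, 2, 3, 2, 1, 2, 3, 2, 3, 0, 3, 0, 1, 1, 0, 1, 0, 3] (by decide +kernel) (by decide +kernel)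

theorem dat_s4_4 (h : OrdDiv.Real (.psp 2 4) N) (ho : Nat.card N = 979200) :
    Tri N 2 4 17 ∧ Cj N 17 4 ∧ SC N 17 := by
  have H := (has_S (B := 16) (n := 8) (o := 979200) rg4 (il_two 2 2 (by decide)) h (by decide +kernel)
    [mat 2 (b2 2 1 1) (ix2 2) [[1, 0, 2, 2], [1, 0, 2, 0], [3, 3, 1, 1], [3, 3, 0, 0]],
    mat 2 (b2 2 1 1) (ix2 2) [[1, 2, 2, 1], [0, 3, 3, 0], [1, 3, 2, 1], [2, 1, 2, 0]]] (two_mem (by decide +kernel))).ext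
    [[0], [1], [0], [1, 1, 1]]
    [[286327041, 16846864, 286326784, 16842752, 69648, 1052945, 65552, 1048593], [268500993, 286261264, 17895696, 268501265, 269488400, 286327057, 65537, 1048592], [286327041, 16846864, 286326784, 16842752, 69648, 1052945, 65552, 1048593], [285278480, 17829905, 17825808, 269549585, 268501264, 286265361, 285212689, 16777217]] (by decide +kernel)
  exact ⟨H.tri [(1, 255, 246, [[1, 0, 1, 0, 0, 0, 1, 0, 0, 0, 1, 0, 1], [0, 1, 1, 1, 0, 1, 1, 1, 0, 1, 1, 1, 0, 1, 1, 0, 1, 0, 1, 1, 0, 1, 0, 0]]),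
    (65536, 64, 58, [[0, 0, 0, 1, 1, 0, 1, 1], [0, 0, 1, 1, 0, 0, 0, 0, 1, 1, 1]]),
    (256, 15, 12, [[1, 1, 0, 0, 1, 1, 0, 0, 1], [1, 1, 0, 0, 0, 0, 0, 1, 1, 0]]),
    (16777216, 4, 2, [])]
    (by norm_num) (by decide +kernel),
    H.sc [3, 0] [1, 2, 3, 2, 3, 2, 3, 2, 3, 2, 1, 2, 1, 0, 1, 1, 0, 1, 0, 1, 0, 1, 0, 1, 0, 3] [0] [2] [1] [3] 6505 9601 (by norm_num) ho (by decide) (by decide)
    (by decide +kernel) (by decide +kernel) (by decide +kernel)⟩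

theorem dat_s4_5 (h : OrdDiv.Real (.psp 2 5) N) :
    Tri N 2 3 13 ∧ Cj N 13 5 := by
  have H := (has_S (B := 128) (n := 4) (o := 9360000) (rg_prime 5 (by norm_num)) (il_two 2 2 (by decide)) h (by decide +kernel)
    [mat 5 ([1] : List (ZMod 5)) (ix2 2) [[3, 3, 3, 4], [3, 1, 4, 2], [4, 1, 2, 2], [1, 0, 2, 4]],
    mat 5 ([1] : List (ZMod 5)) (ix2 2) [[4, 3, 1, 4], [0, 1, 3, 4], [2, 2, 1, 4], [2, 2, 0, 0]]] (two_mem (by decide +kernel))).ext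
    [[0], [1], [0, 0, 0], [1, 1]]
    [[2163075, 16515, 4227587, 8421636], [4227076, 4227203, 16769, 66052], [8405250, 66050, 6340738, 2146689], [6341121, 6340608, 6357124, 2097282]] (by decide +kernel)
  exact ⟨H.tri [(1, 624, 621, [[0, 1, 0, 1, 0, 1, 0, 0, 1, 0, 1, 1, 0, 1, 1, 0, 1], [1, 0, 1, 0, 1, 0, 1, 0, 1, 0, 1, 0, 1, 1, 0]]),
    (16384, 125, 114, [[1, 0, 0, 0, 1, 0, 1, 0, 1, 1, 1, 0], [1, 1, 1, 0, 1, 0]]),
    (128, 24, 21, [[1, 0, 0, 1, 0, 1, 1]]),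
    (2097152, 5, 4, [])]
    (by norm_num) (by decide +kernel),
    H.cj [1, 0] [3, 2, 3, 2, 3, 2, 3, 2, 1, 2, 1, 2, 1, 2, 1, 2, 3, 2, 1, 2, 3, 2, 3, 2, 3, 0, 1, 0, 1, 0, 1, 0, 3, 0, 1, 0, 1, 0, 1, 0, 3, 0, 1, 0, 3, 0, 1] (by norm_num) (by decide +kernel)⟩

theorem dat_s4_7 (h : OrdDiv.Real (.psp 2 7) N) :
    (∃ c, Tri N 2 3 c) := by
  have H := (has_S (B := 256) (n := 4) (o := 276595200) (rg_prime 7 (by norm_num)) (il_two 2 2 (by decide)) h (by decide +kernel)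
    [mat 7 ([1] : List (ZMod 7)) (ix2 2) [[1, 4, 4, 5], [3, 0, 5, 0], [5, 3, 6, 4], [3, 1, 3, 0]],
    mat 7 ([1] : List (ZMod 7)) (ix2 2) [[4, 0, 4, 2], [6, 4, 1, 0], [3, 0, 5, 2], [6, 4, 1, 2]]] (two_mem (by decide +kernel))).ext
    [[0], [1], [0, 0, 0], [1, 1]]
    [[50660097, 16973828, 50726148, 262149], [100861444, 67109888, 17105156, 33685506], [67240966, 100925443, 67174915, 196610], [262661, 50397697, 263427, 67502086]] (by decide +kernel)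
  exact H.any [(1, 2400, 2397, [[1, 1, 0, 0, 0, 1, 0, 1, 0, 1, 1, 0, 1, 0, 0, 0, 1, 1, 0, 1, 0, 1, 0], [1, 1, 0, 1, 0, 1, 0, 1, 0, 1, 1, 0, 0, 0, 1, 0, 0, 0, 0, 0, 1, 0, 1, 0]]),
    (65536, 343, 327, [[1, 1, 1, 0, 1, 0, 0, 0, 1, 0], [0, 1, 0, 1, 1, 1, 0, 1, 0, 0]]),
    (256, 48, 47, [[1, 0, 0, 1, 0, 1, 1]]),
    (16777216, 7, 6, [])]
    (by decide +kernel)

end Cfsg.Agent.N2.Tg.S4
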