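import Mathlib

/-!
# N2 (S3519): generating triples and data of elements of prime order (helper85)
-/

set_option autoImplicit false

namespace Cfsg.Agent.N2.Tg

open Subgroup

variable (N : Type*) [Group N]

/-- `N` is generated by `x`, `y` with `x ^ a = y ^ b = 1` and `x y` of order `c` -/
def Tri (a b c : ℕ) : Prop := ∃ x y : N, x ^ a = 1 ∧ y ^ b = 1 ∧ orderOf (x * y) = c ∧ closure ({x, y} : Set N) = ⊤

/-- the same, and `x y` is conjugate to its `j`-th power -/
def TriJ (a b c j : ℕ) : Prop :=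
  ∃ x y : N, x ^ a = 1 ∧ y ^ b = 1 ∧ orderOf (x * y) = c ∧ closure ({x, y} : Set N) = ⊤ ∧ IsConj (x * y) ((x * y) ^ j)

/-- an element of order `r` which is conjugate to its `j`-th power -/
def Cj (r j : ℕ) : Prop := ∃ g : N, orderOf g = r ∧ IsConj g (g ^ j)

/-- an element of order `r` such that the normaliser of the group it generates has at least `m` elements -/
def Nz (r m : ℕ) : Prop := ∃ g : N, orderOf g = r ∧ m ≤ Nat.card (normalizer (zpowers g : Set N))

/-- a self-centralising element of order `r` -/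
def SC (r : ℕ) : Prop := ∃ g : N, orderOf g = r ∧ centralizer {g} ≤ zpowers g

variable {N} {M : Type*} [Group M]

theorem closure_pair_map (f : N →* M) (hf : Function.Surjective f) {x y : N} (h : closure ({x, y} : Set N) = ⊤) :
    closure ({f x, f y} : Set M) = ⊤ := by
  rw [← Set.image_pair, ← MonoidHom.map_closure, h, ← MonoidHom.range_eq_map, MonoidHom.range_eq_top.2 hf]

theorem TriJ.congr {a b c j : ℕ} (e : N ≃* M) (h : TriJ N a b c j) : TriJ M a b c j := by
  obtain ⟨x, y, h1, h2, h3, h4, h5⟩ := h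
  refine ⟨e x, e y, by rw [← map_pow, h1, map_one], by rw [← map_pow, h2, map_one], by rw [← map_mul, MulEquiv.orderOf_eq, h3],
    closure_pair_map e.toMonoidHom e.surjective h4, ?_⟩
  rw [← map_mul, ← map_pow]
  exact e.toMonoidHom.map_isConj h5

theorem TriJ.tri {a b c j : ℕ} (h : TriJ N a b c j) : Tri N a b c := by
  obtain ⟨x, y, h1, h2, h3, h4, -⟩ := h
  exact ⟨x, y, h1, h2, h3, h4⟩

theorem TriJ.cj {a b c j : ℕ} (h : TriJ N a b c j) : Cj N c j := by
  obtain ⟨x, y, -, -, h3, -, h5⟩ := h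
  exact ⟨_, h3, h5⟩

theorem Tri.triJ {a b c : ℕ} (h : Tri N a b c) : TriJ N a b c 1 := by
  obtain ⟨x, y, h1, h2, h3, h4⟩ := h
  exact ⟨x, y, h1, h2, h3, h4, by rw [pow_one]⟩

theorem Tri.congr {a b c : ℕ} (e : N ≃* M) (h : Tri N a b c) : Tri M a b c := (h.triJ.congr e).tri

/-- images; the order of the product is prime -/
theorem Tri.of_surj {a b c : ℕ} (hc : c.Prime) (f : N →* M) (hf : Function.Surjective f) {x y : N} (h1 : f x ^ a = 1)
    (h2 : f y ^ b = 1) (h3 : f (x * y) ^ c = 1) (h4 : f (x * y) ≠ 1) (h : closure ({x, y} : Set N) = ⊤) : Tri M a b c := by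
  have : Fact c.Prime := ⟨hc⟩
  exact ⟨f x, f y, h1, h2, by rw [← map_mul]; exact orderOf_eq_prime h3 h4, closure_pair_map f hf h⟩

theorem Cj.map {r j : ℕ} (f : N →* M) (hf : Function.Injective f) (h : Cj N r j) : Cj M r j := by
  obtain ⟨g, h1, h2⟩ := h
  refine ⟨f g, by rw [orderOf_injective f hf, h1], ?_⟩
  rw [← map_pow]
  exact f.map_isConj h2

theorem Cj.congr {r j : ℕ} (e : N ≃* M) (h : Cj N r j) : Cj M r j := h.map e.toMonoidHom e.injective

theorem SC.congr {r : ℕ} (e : N ≃* M) (h : SC N r) : SC M r := by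
  obtain ⟨g, h1, h2⟩ := h
  refine ⟨e g, by rw [MulEquiv.orderOf_eq, h1], fun x hx => ?_⟩
  obtain ⟨y, rfl⟩ := e.surjective x
  obtain ⟨k, hk⟩ := h2 (show y ∈ centralizer {g} from mem_centralizer_singleton_iff.2 (e.injective (by
    rw [map_mul, map_mul]; exact mem_centralizer_singleton_iff.1 hx)))
  exact ⟨k, by rw [← hk, map_zpow]⟩

theorem Nz.map [Finite M] {r m : ℕ} (f : N →* M) (hf : Function.Injective f) (h : Nz N r m) : Nz M r m := by
  obtain ⟨g, h1, h2⟩ := h
  refine ⟨f g, by rw [orderOf_injective f hf, h1], h2.trans ?_⟩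
  rw [← Subgroup.card_map_of_injective hf, ← MonoidHom.map_zpowers]
  exact Subgroup.card_le_of_le (Subgroup.le_normalizer_map f)

end Cfsg.Agent.N2.Tg
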