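import Cfsg.Agent.N2.Tri.PEng
import Cfsg.Agent.H494.F22.Rep
import Cfsg.Agent.Fischer.Fi22Order

/-!
# N2 (S3519): a generating triple of `Fi22` (helper85)
-/

set_option autoImplicit false
set_option maxRecDepth 100000

namespace Cfsg.Agent.N2.Tg.Fi22

open Cfsg Cfsg.Agent.SB.Spor Cfsg.Agent.N2.Tg.PE
open Cfsg.Agent.H494.F22 Cfsg.Agent.H494.F22.Dat

theorem ck : triChk (plk 12 4095) (pmk 12 4095 3510 12) 3510 64561751654400 [t0, t1, t2, t3, t4, t5, t6, t7, t8] 328449 1865391595730156071178995462 2 3 22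
    [258, 131587, 16908546, 55556970160859513602, 18591423315562266881, 3636259302035713947796226, 8623555074, 159078931307401344548253860611, 238617797220630748315766752003, 65793, 12918588164, 1412885410743557]
    [(0, [12, 11]), (1, [10, 9]), (35, [8, 7]), (72, [6, 5, 4]), (10, [3, 2, 1])] = true := by decide +kernel

theorem ins (x : Spor.Fi22.Gen) : (PM.ofHom rho).In (plk 12 4095) (tb (ix x)) :=
  ⟨_, PM.rf_ofHom rho fun i => by rw [rho_of]; exact S_val ((ix_lt x).trans (by norm_num)) i⟩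

theorem tri_fi22 {N : Type} [Group N] (h : Spor.IsoFi22 N) : ∃ c, Tri N 2 3 c := by
  obtain ⟨e⟩ := h
  have h1 := Fischer.Fi22Order.card_fi22
  have : Finite Spor.Fi22 := Nat.finite_of_card_ne_zero (by rw [h1]; norm_num)
  obtain ⟨c, h2⟩ := any_of_gen (gen_of_chk (perm_tab (PM.ofHom rho) (by norm_num) (by norm_num) (by norm_num))
    (AllIn.cons (ins .a) (AllIn.cons (ins .b) (AllIn.cons (ins .c) (AllIn.cons (ins .d) (AllIn.cons (ins .e)
      (AllIn.cons (ins .f) (AllIn.cons (ins .g) (AllIn.cons (ins .h) (AllIn.cons (ins .i) AllIn.nil))))))))) h1.le ck)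
  exact ⟨c, h2.congr e.symm⟩

end Cfsg.Agent.N2.Tg.Fi22
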