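import Cfsg.Agent.N2.Tri.PEng
import Cfsg.Agent.SB.SporF.RowHS

/-!
# N2 (S3519): generating triples of `HS` and `McL` (helper85)
-/

set_option autoImplicit false
set_option maxRecDepth 100000

namespace Cfsg.Agent.N2.Tg.HSMcL

open Cfsg Cfsg.Agent.SB.Spor Cfsg.Agent.N2.Tg.PE
open Cfsg.Agent.SB.SporF

theorem ck_hs : triChk HS.lk HS.mk 100 44352000 HS.E0 1 144680349971120643 2 3 11
    [258, 131587, 564058088669442, 217020514202419971, 8623554817, 216737944009114115, 33620481, 565157617140482, 289360687040496643, 258]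
    [(0, [10, 9]), (1, [8, 7]), (3, [6, 5]), (8, [4, 3, 2]), (2, [1])] = true := by decide +kernel

theorem ck_mcl : triChk McL.lk McL.mk 275 898128000 McL.E0 4 21492008705 2 5 11
    [258, 131587, 50529028, 33685763, 33686275, 144398870682665474, 216737944009048834, 564053776859649, 144681445187846659, 55557535314148066307, 2203368620291]
    [(0, [11, 10, 9]), (1, [8, 7]), (2, [6, 5]), (4, [4, 3, 2]), (5, [1])] = true := by decide +kernel

theorem tri_hs {N : Type} [Group N] (h : Spor.IsoHS N) : Tri N 2 3 11 := by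
  obtain ⟨e⟩ := h
  obtain ⟨⟨f⟩, _⟩ := HN.AutHS.nonempty_Q
  exact (tri_of_gen (by norm_num) two_pos (by rw [HN.AutBound.card_Q]; norm_num)
    (gen_of_chk (HS.tab _) HS.hyp.h0 HS.hyp.hN ck_hs)).congr (f.trans e.symm)

theorem tri_mcl {N : Type} [Group N] (h : Spor.IsoMcL N) : Tri N 2 5 11 := by
  obtain ⟨e⟩ := h
  obtain ⟨f⟩ := McLType.X275.isoMcL_G1
  have : Finite McLType.X275.G1 := Nat.finite_of_card_ne_zero (by rw [McLType.X275.card_G1]; norm_num)
  exact (tri_of_gen (by norm_num) two_pos (by rw [McLType.X275.card_G1]; norm_num)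
    (gen_of_chk (McL.tab _) McL.hyp.h0 McL.hyp.hN ck_mcl)).congr (f.trans e.symm)

end Cfsg.Agent.N2.Tg.HSMcL
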