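import Cfsg.Agent.N2.Tri.PEng
import Cfsg.Agent.SB.SporF.RowJ2
import Cfsg.Agent.FS.Real.Math
import Cfsg.Agent.H852.IMMathieu

/-!
# N2 (S3519): generating triples of `M₁₁`, `M₁₂`, `M₂₂`, `J₂` (helper85)
-/

set_option autoImplicit false
set_option maxRecDepth 100000

namespace Cfsg.Agent.N2.Tg.MJ

open Cfsg Cfsg.Agent.SB.Spor Cfsg.Agent.N2.Tg.PE
open Cfsg.Agent.SB.SporF Cfsg.Agent.SporadicA.GolayBase Cfsg.Agent.SporadicA.GolayPerm
open scoped Pointwise

/-- a group of permutations of the 24 points acts on the indices -/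
def golPM (H : Subgroup (Equiv.Perm GolayPt)) : PM H 24 where
  act g i := idx (g.1 (pt i))
  lt _ _ _ := idx_lt _
  one _ hi := idx_pt hi
  mul g h i _ := by rw [pt_idx]; rfl

theorem gol_in {H : Subgroup (Equiv.Perm GolayPt)} {a : ℕ} (ha : isPerm a = true) (h : permOf a ha ∈ H) :
    (golPM H).In (plk 5 31) a :=
  ⟨⟨_, h⟩, fun i hi => by
    show idx (permOf a ha (pt i)) = (a >>> (5 * i)) &&& (2 ^ 5 - 1)
    rw [idx_permOf, idx_pt hi, Nat.and_two_pow_sub_one_eq_mod]
    rfl⟩

theorem in12 {a : ℕ} (h : (isPerm a && isAut a && Nat.beq (pimg a 340831) 340831) = true) :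
    ∃ ha : isPerm a = true, permOf a ha ∈ Spor.M12 := by
  rw [Bool.and_eq_true, Bool.and_eq_true] at h
  refine ⟨h.1.1, permOf_mem_M24 h.1.1 h.1.2, ?_⟩
  show permOf a h.1.1 ∈ MulAction.stabilizer (Equiv.Perm GolayPt) Spor.squareDodecad
  rw [MulAction.mem_stabilizer_iff, FS.Real.squareDodecad_eq_fin, smul_fin, Nat.eq_of_beq_eq_true h.2]

theorem i12 {a : ℕ} (h : (isPerm a && isAut a && Nat.beq (pimg a 340831) 340831) = true) : (golPM Spor.M12).In (plk 5 31) a :=
  (in12 h).elim fun ha h1 => gol_in ha h1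

theorem i11 {a : ℕ} (h : (isPerm a && isAut a && Nat.beq (pimg a 340831) 340831) = true) (h0 : Nat.beq (papp a 0) 0 = true) :
    (golPM Spor.M11).In (plk 5 31) a :=
  (in12 h).elim fun ha h1 => gol_in ha ⟨h1, FS.Real.permOf_fix ha (p := some 0) h0⟩

theorem i22 {a : ℕ} (h : (isPerm a && isAut a && Nat.beq (papp a 23) 23 && Nat.beq (papp a 0) 0) = true) :
    (golPM Spor.M22).In (plk 5 31) a := by
  rw [Bool.and_eq_true, Bool.and_eq_true, Bool.and_eq_true] at h
  exact gol_in h.1.1.1 ⟨⟨permOf_mem_M24 h.1.1.1 h.1.1.2, FS.Real.permOf_fix _ (p := none) h.1.2⟩,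
    FS.Real.permOf_fix _ (p := some 0) h.2⟩

theorem ck_m11 : triChk (plk 5 31) (pmk 5 31 24 5) 24 7920
    [818648408741653738881167552609169696, 716023986603978169715911651309499648] 1 2 2 4 11
    [258, 131587, 50529028, 3, 515, 131329, 12918653699, 16908802, 12918588163]
    [(5, [9, 8, 7]), (1, [6, 5]), (2, [4, 3]), (4, [2, 1])] = true := by decide +kernel

theorem ck_m12 : triChk (plk 5 31) (pmk 5 31 24 5) 24 95040
    [944404058022041652138526881369704744, 719771580800244695032014197856766162] 1 2 2 3 11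
    [258, 131587, 1108135248385, 3311453537026, 16908802, 33751810, 131330, 33686274, 1, 846636872041219]
    [(0, [10, 9]), (5, [8, 7]), (1, [6, 5]), (2, [4, 3]), (4, [2, 1])] = true := by decide +kernel

theorem ck_m22 : triChk (plk 5 31) (pmk 5 31 24 5) 24 443520
    [984802378476862084643019760215902752, 978897043818697427429824075175013408] 1 2 2 4 11
    [258, 131587, 50529028, 196867, 17247240706, 258, 12918588163, 4311875842, 3311470248707, 848835912139780, 66050]
    [(1, [11, 10, 9]), (2, [8, 7]), (3, [6, 5]), (4, [4, 3, 2]), (5, [1])] = true := by decide +kernel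

theorem ck_j2 : triChk J2.lk J2.mk 100 604800 J2.E0 4 317845950253124517942643589633 2 3 7
    [258, 131587, 283678328553986, 144962920181334787, 514, 9481843473301417165314, 2203335131650]
    [(0, [7, 6]), (1, [5, 4]), (2, [3, 2]), (8, [1])] = true := by decide +kernel

variable {N : Type} [Group N]

theorem tri_m11 (h : Spor.IsoM11 N) : Tri N 2 4 11 := by
  obtain ⟨e⟩ := h
  have h1 := H852.IMMathieu.card_M11
  exact (tri_of_gen (by norm_num) two_pos (by rw [h1]; norm_num)
    (gen_of_chk (perm_tab (golPM _) (by norm_num) (by norm_num) (by norm_num))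
      (AllIn.cons (i11 (by decide +kernel) (by decide +kernel)) (AllIn.cons (i11 (by decide +kernel) (by decide +kernel)) AllIn.nil)) h1.le ck_m11)).congr e.symm

theorem tri_m12 (h : Spor.IsoM12 N) : Tri N 2 3 11 := by
  obtain ⟨e⟩ := h
  have h1 := H852.IMMathieu.card_M12
  exact (tri_of_gen (by norm_num) two_pos (by rw [h1]; norm_num)
    (gen_of_chk (perm_tab (golPM _) (by norm_num) (by norm_num) (by norm_num))
      (AllIn.cons (i12 (by decide +kernel)) (AllIn.cons (i12 (by decide +kernel)) AllIn.nil)) h1.le ck_m12)).congr e.symm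

theorem tri_m22 (h : Spor.IsoM22 N) : Tri N 2 4 11 := by
  obtain ⟨e⟩ := h
  have h1 := H852.IMMathieu.card_M22
  exact (tri_of_gen (by norm_num) two_pos (by rw [h1]; norm_num)
    (gen_of_chk (perm_tab (golPM _) (by norm_num) (by norm_num) (by norm_num))
      (AllIn.cons (i22 (by decide +kernel)) (AllIn.cons (i22 (by decide +kernel)) AllIn.nil)) h1.le ck_m22)).congr e.symm

theorem tri_j2 (h : Spor.IsoJ2 N) : Tri N 2 3 7 := by
  obtain ⟨e⟩ := h
  obtain ⟨f⟩ := Cfsg.Agent.J2.HundredGens.J2_iso S1619.result.2.2.2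
  exact (tri_of_gen (by norm_num) two_pos (by rw [SporadicA.J2Hundred.card_G]; norm_num)
    (gen_of_chk (J2.tab _) J2.hyp.h0 J2.hyp.hN ck_j2)).congr (e.trans f).symm

end Cfsg.Agent.N2.Tg.MJ
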