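import Cfsg.Agent.N2.Tri.PEng
import Cfsg.Agent.SporRec.SuzPerm
import Cfsg.Agent.SporadicRecognition.SuzOrder

/-!
# N2 (S3519): a generating triple of `Suz` (helper85)
-/

set_option autoImplicit false
set_option maxRecDepth 100000

namespace Cfsg.Agent.N2.Tg.Suz

open Cfsg Cfsg.Agent.SB.Spor Cfsg.Agent.N2.Tg.PE
open Cfsg.Agent.SporRec.SuzPerm

theorem ck : triChk (plk 12 4095) (pmk 12 4095 1782 11) 1782 448345497600 [tA, tB, tC, tD, tE, tF, tG] 2 34589718534977074626170228840836633347078156058585967866635931046970117 2 3 21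
    [258, 131587, 36966110894745583874, 37110227190939779842, 2203335131394, 37038449968088744706, 9463324108683682644226, 2432055848903958713205507]
    [(0, [8, 7]), (1, [6, 5]), (2, [4, 3]), (160, [2, 1])] = true := by decide +kernel

theorem ins (x : Spor.Suz.Gen) : (PM.ofHom φ).In (plk 12 4095) (tab x) :=
  ⟨_, PM.rf_ofHom φ fun i => by rw [φ_of]; exact gen_val x i⟩

theorem tri_suz {N : Type} [Group N] (h : Spor.IsoSuz N) : ∃ c, Tri N 2 3 c := by
  obtain ⟨e⟩ := h
  have h1 := SporadicRecognition.SuzOrder.card_Suz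
  have : Finite Spor.Suz := Nat.finite_of_card_ne_zero (by rw [h1]; norm_num)
  obtain ⟨c, h2⟩ := any_of_gen (gen_of_chk (perm_tab (PM.ofHom φ) (by norm_num) (by norm_num) (by norm_num))
    (AllIn.cons (ins .a) (AllIn.cons (ins .b) (AllIn.cons (ins .c) (AllIn.cons (ins .d) (AllIn.cons (ins .e)
      (AllIn.cons (ins .f) (AllIn.cons (ins .g) AllIn.nil))))))) h1.le ck)
  exact ⟨c, h2.congr e.symm⟩

end Cfsg.Agent.N2.Tg.Suz
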