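import Cfsg.Agent.N2.Tri.Defs
import Cfsg.Agent.N2.Cl.RSp.Cnt
import Cfsg.Agent.H542.Frobenius
import Cfsg.Agent.H129.CycT

/-!
# N2 (S3519): the automizer of a self-centralising element of prime order (helper85)
-/

set_option autoImplicit false

namespace Cfsg.Agent.N2.Tg

open Subgroup Cfsg.Agent.N2C.RSp

variable {G : Type*} [Group G] [Finite G] {r o j : ℕ}

theorem dvd_nA (hr : r.Prime) (h : r ∣ Nat.card G) : r ∣ nA G r + 1 := by
  classical
  have : Fact r.Prime := ⟨hr⟩
  have : Fintype G := Fintype.ofFinite G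
  have h1 := H542.Frobenius.frobenius_dvd h
  rwa [Nat.card_eq_fintype_card, Fintype.card_subtype, show (Finset.univ.filter fun x : G => x ^ r = 1) =
      insert 1 (Finset.univ.filter fun x : G => orderOf x = r) from by
    ext x
    simp only [Finset.mem_filter, Finset.mem_univ, true_and, Finset.mem_insert]
    refine ⟨fun h2 => (em (x = 1)).imp_right (orderOf_eq_prime h2), ?_⟩
    rintro (rfl | h2)
    exacts [one_pow r, h2 ▸ pow_orderOf_eq_one x], Finset.card_insert_of_notMem (by simpa using hr.one_lt.ne),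
    ← Fintype.card_subtype, ← Nat.card_eq_fintype_card] at h1

/-- every possible order `a` of the automizer satisfies `j ^ a = 1` -/
def okA (o r j : ℕ) : Bool := !Nat.beq (o % r ^ 2) 0 && (List.range r).all fun a =>
  !Nat.beq ((r - 1) % a) 0 || !Nat.beq (((r - 1) * o / (a * r) + 1) % r) 0 || Nat.beq (j ^ a % r) 1

/-- **the automizer from the number of elements of order `r`** -/
theorem cj_of_sc (hr : r.Prime) (ho : Nat.card G = o) (hs : SC G r) (h : okA o r j = true) : Cj G r j := by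
  obtain ⟨g, hg, hc⟩ := hs
  have : Fact r.Prime := ⟨hr⟩
  simp only [okA, Bool.and_eq_true, Bool.or_eq_true, List.all_eq_true, List.mem_range, Bool.not_eq_true',
    ← Bool.not_eq_true, Nat.beq_eq] at h
  have h2 : ¬ r ^ 2 ∣ Nat.card G := fun h1 => h.1 (Nat.mod_eq_zero_of_dvd (ho ▸ h1))
  have h0 : g ^ r = 1 := hg ▸ pow_orderOf_eq_one g
  have h3 := card_aut hr h2 hg h0
  have h4 : cn g = r := by
    rw [cn, le_antisymm hc (zpowers_le.2 (mem_centralizer_singleton_iff.2 rfl)), Nat.card_zpowers, hg]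
  have h5 := card_cent hr h2 hg
  rw [h4, mul_comm] at h5
  have h6 := dvd_nA hr (hg ▸ orderOf_dvd_natCard g)
  rw [Nat.eq_of_mul_eq_mul_left hr.pos h5] at h6
  have h7 : Nat.card (aut g r h0) ∣ r - 1 := by
    have := card_subgroup_dvd_card (aut g r h0)
    rwa [Nat.card_eq_fintype_card (α := (ZMod r)ˣ), ZMod.card_units] at this
  have h8 := Nat.le_of_dvd (by have := hr.two_le; omega) h7
  refine ⟨g, hg, isConj_pow hr h2 hg h3 (((h.2 _ (by have := hr.pos; omega)).resolve_left ?_))⟩
  rintro (h9 | h9)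
  · exact h9 (Nat.mod_eq_zero_of_dvd h7)
  · rw [← ho, ← h3, ← mul_assoc, Nat.mul_div_cancel_left _ (Nat.mul_pos Nat.card_pos hr.pos)] at h9
    exact h9 (Nat.mod_eq_zero_of_dvd h6)

omit [Finite G] in
theorem sc_of_exact (hr : r.Prime) (h : H129.CycT.CycExact G r) : SC G r := by
  obtain ⟨T, h1, h2, h3⟩ := h
  obtain ⟨g, hg⟩ := (Subgroup.isCyclic_iff_exists_zpowers_eq_top T).1 h1
  have h4 : orderOf g = r := by rw [← Nat.card_zpowers, hg, h2]
  refine ⟨g, h4, (h3 g (hg ▸ mem_zpowers g) fun h5 => ?_).le.trans hg.ge⟩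
  rw [h5, orderOf_one] at h4
  exact hr.one_lt.ne h4

end Cfsg.Agent.N2.Tg
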