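import Cfsg.Agent.N2.Tri.PEng
import Cfsg.Agent.N2.Tri.Syl
import Cfsg.Agent.H347.HX.G23.Main
import Cfsg.Agent.H347.HX.D42.Group
import Cfsg.Agent.SporRec.SuzPerm
import Cfsg.Agent.S1679
import Cfsg.Agent.S1059
import Cfsg.Agent.S1062
import Cfsg.Agent.OrdDiv.Main

/-!
# N2 (S3519): the data of `G₂(3)`, `G₂(4)`, `G₂(5)`, `³D₄(2)`, `F₄(2)` (helper85)
-/

set_option autoImplicit false
set_option maxRecDepth 100000

namespace Cfsg.Agent.N2.Tg.Exc

open Cfsg Cfsg.Agent.SB.Spor Cfsg.Agent.N2.Tg.PE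
open Cfsg.Agent.H347.HX Cfsg.Agent.OrdDiv Cfsg.Agent.H129.CycT Cfsg.Agent.SporRec.SuzPerm

theorem ck_g23 : triChk (plk 9 511) (pmk 9 511 364 9) 364 4245696 ([0, 1, 2, 3, 4, 5].map G23.LT) 6 361414978282193154 2 3 13
    [258, 131587, 4740957624710230770177, 159388416335741771655913014019, 10404955976233155725793018897367554, 15617614472534186254912276767310339]
    [(0, [6, 5]), (1, [4, 3]), (14, [2, 1])] = true := by decide +kernel

theorem ck_g24 : triChk (plk 12 4095) (pmk 12 4095 1782 11) 1782 251596800 [tA, tB, tC, tD, tE, tF] 4 28389900829190793855750 2 3 13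
    [258, 131587, 9463252331465109799426, 14204137617106325930499, 565153305264641, 159388416335669432591193342723, 144679246147748354]
    [(47, [7, 6]), (1, [5, 4]), (2, [3, 2]), (14, [1])] = true := by decide +kernel

theorem ck_d42 : triChk (plk 10 1023) (pmk 10 1023 819 10) 819 211341312 ([0, 1, 2, 3, 4].map D42.LT) 3 23648942642647267475972 2 3 13
    [258, 131587, 621397352980714554858209794, 622606297391751400083555075, 9481698794059547607553, 2427333410646065240277507, 1103823438338]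
    [(0, [7, 6]), (22, [5, 4]), (71, [3, 2]), (1, [1])] = true := by decide +kernel

variable {N : Type} [Group N]

theorem loc_g2 {q r j o : ℕ} (h : Real (.g2 q) N) (hr : r.Prime) (ho : q ^ 6 * (q ^ 2 - 1) * (q ^ 6 - 1) = o) (h0 : o ≠ 0)
    (hN : (r : ℤ) = 1 + (q : ℤ) + (q : ℤ) ^ 2 ∨ (r : ℤ) = 1 - (q : ℤ) + (q : ℤ) ^ 2) (h3 : ¬ 3 ∣ r) (hk : okA o r j = true) :
    Cj N r j ∧ SC N r := by
  obtain ⟨F, _, _, hF, ⟨e⟩⟩ := h
  have h1 := (S1059.result hF).trans ho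
  have : Finite ↥(Lie.chevG2.group F) := Nat.finite_of_card_ne_zero (h1 ▸ h0)
  have h2 := sc_of_exact hr (hN.elim (exact_G2_3 hF · h3) (exact_G2_6 hF · h3))
  exact ⟨(cj_of_sc hr h1 h2 hk).congr e.symm, h2.congr e.symm⟩

theorem dat_g23 (h : Real (.g2 3) N) : Tri N 2 3 13 ∧ Cj N 13 4 ∧ SC N 13 := by
  classical
  refine ⟨?_, loc_g2 h (by norm_num) rfl (by norm_num) (Or.inl (by norm_num)) (by norm_num) (by decide +kernel)⟩
  obtain ⟨F, _, _, hF, ⟨e⟩⟩ := h
  have σ : ZMod 3 ≃+* F := FiniteField.ringEquivOfCardEq (by rw [ZMod.card, hF])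
  obtain ⟨f⟩ := G23.iso.2.2
  refine (tri_of_gen (by norm_num) two_pos (by rw [G23.card_A]; norm_num)
    (gen_of_chk (perm_tab (PM.ofHom G23.A.subtype) (by norm_num) (by norm_num) (by norm_num)) (fun t ht => ?_)
      G23.card_A.le ck_g23)).congr ((f.trans (ChevalleyStructure.FieldIso.groupEquiv Lie.chevG2 σ)).trans e.symm)
  obtain ⟨j, -, rfl⟩ := List.mem_map.1 ht
  exact ⟨G23.s j, PM.rf_ofHom _ fun _ => rfl⟩

theorem dat_g24 (h : Real (.g2 4) N) : Tri N 2 3 13 ∧ Cj N 13 4 ∧ SC N 13 := by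
  classical
  refine ⟨?_, loc_g2 h (by norm_num) rfl (by norm_num) (Or.inr (by norm_num)) (by norm_num) (by decide +kernel)⟩
  obtain ⟨F, _, _, hF, ⟨e⟩⟩ := h
  obtain ⟨K, _, _, hK, ⟨f⟩⟩ := S1679.result
  have σ : K ≃+* F := FiniteField.ringEquivOfCardEq (by rw [hK, hF])
  have h1 := (Nat.card_congr f.toEquiv).trans (S1059.result hK)
  have := Nat.finite_of_card_ne_zero (h1.trans_ne (by norm_num))
  refine (tri_of_gen (by norm_num) two_pos (by rw [h1]; norm_num)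
    (gen_of_chk (perm_tab (PM.ofHom (φ.comp (Subgroup.subtype _))) (by norm_num) (by norm_num) (by norm_num)) ?_
      (h1.trans_le (by norm_num)) ck_g24)).congr
    ((f.trans (ChevalleyStructure.FieldIso.groupEquiv Lie.chevG2 σ)).trans e.symm)
  have k : ∀ x : Spor.Suz.Gen, FreeGroup.of x ∈ ({Spor.Suz.a, Spor.Suz.b, Spor.Suz.c, Spor.Suz.d, Spor.Suz.e, Spor.Suz.f} :
      Set (FreeGroup Spor.Suz.Gen)) → (PM.ofHom (φ.comp (Subgroup.subtype ((Subgroup.closure ({Spor.Suz.a, Spor.Suz.b,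
        Spor.Suz.c, Spor.Suz.d, Spor.Suz.e, Spor.Suz.f} : Set (FreeGroup Spor.Suz.Gen))).map (PresentedGroup.mk
          (Spor.coxRelators Spor.Suz.edges ∪ {r | r ∈ Spor.Suz.extra})))))).In (plk 12 4095) (tab x) := fun x hx =>
    ⟨⟨_, _, Subgroup.subset_closure hx, rfl⟩, PM.rf_ofHom _ fun i => by
      rw [MonoidHom.comp_apply, Subgroup.subtype_apply, φ_of]; exact gen_val x i⟩
  exact AllIn.cons (k .a (Or.inl rfl)) (AllIn.cons (k .b (Or.inr (Or.inl rfl))) (AllIn.cons (k .c (Or.inr (Or.inr (Or.inl rfl))))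
    (AllIn.cons (k .d (Or.inr (Or.inr (Or.inr (Or.inl rfl))))) (AllIn.cons (k .e (Or.inr (Or.inr (Or.inr (Or.inr (Or.inl rfl))))))
      (AllIn.cons (k .f (Or.inr (Or.inr (Or.inr (Or.inr (Or.inr rfl)))))) AllIn.nil)))))

theorem dat_g25 (h : Real (.g2 5) N) : Cj N 31 6 ∧ SC N 31 :=
  loc_g2 h (by norm_num) rfl (by norm_num) (Or.inl (by norm_num)) (by norm_num) (by decide +kernel)

theorem dat_td42 (h : Real (.td4 2) N) : Tri N 2 3 13 := by
  obtain ⟨F, _, _, hF, ⟨e⟩⟩ := h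
  obtain ⟨f⟩ := D42.iso F hF
  refine (tri_of_gen (by norm_num) two_pos (by rw [D42.card_K]; norm_num)
    (gen_of_chk (perm_tab (PM.ofHom (D42.A.subtype.comp D42.K.subtype)) (by norm_num) (by norm_num) (by norm_num))
      (fun t ht => ?_) D42.card_K.le ck_d42)).congr (f.trans e.symm)
  obtain ⟨j, -, rfl⟩ := List.mem_map.1 ht
  exact ⟨⟨D42.s j, D42.s_mem j⟩, PM.rf_ofHom _ fun _ => rfl⟩

theorem dat_f42 (h : Real (.f4 2) N) : Cj N 13 2 ∧ SC N 13 := by
  obtain ⟨F, _, _, hF, ⟨e⟩⟩ := h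
  have h1 := S1062.result hF
  have : Finite ↥(Lie.chevF4.group F) := Nat.finite_of_card_ne_zero (h1.trans_ne (by norm_num))
  have h2 := sc_of_exact (r := 13) (by norm_num) (exact_F4_12 hF (by norm_num))
  exact ⟨(cj_of_sc (by norm_num) h1 h2 (by decide +kernel)).congr e.symm, h2.congr e.symm⟩

end Cfsg.Agent.N2.Tg.Exc
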