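import Cfsg.Agent.N2.Tri.Mat

/-!
# N2 (S3519): triples of `L₂(q)` (helper6)
-/

set_option autoImplicit false

namespace Cfsg.Agent.N2.Tg.L2

open Cfsg Cfsg.Agent.N2.Tg.Eng

variable {N : Type} [Group N]

theorem dat_l2_7 (h : OrdDiv.Real (.psl 2 7) N) :
    Tri N 2 3 7 ∧ Cj N 7 2 := by
  have H := (has_L (B := 128) (n := 2) (o := 336) (rg_prime 7 (by norm_num)) (il_fin 2 (by decide)) h (by decide) (by decide +kernel) (by decide)
    [mat 7 ([1] : List (ZMod 7)) Fin.val [[6, 6], [2, 1]],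
    mat 7 ([1] : List (ZMod 7)) Fin.val [[1, 5], [5, 5]]] (two_mem (by simp only [Matrix.det_fin_two]; decide +kernel))).ext
    [[0], [1], [0, 0, 0], [1, 1]]
    [[262, 134], [641, 645], [641, 769], [261, 130]] (by decide +kernel)
  exact ⟨H.tri [(1, 48, 46, [[0, 0, 0, 0, 1, 1, 1, 0, 1]]),
    (128, 7, 6, [])]
    (by norm_num) (by decide +kernel),
    H.cj [3, 2] [1, 2, 3, 2, 1, 0, 1, 0, 3] (by norm_num) (by decide +kernel)⟩

theorem dat_l3_2 (h : OrdDiv.Real (.psl 3 2) N) :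
    Tri N 2 3 7 ∧ Cj N 7 2 := by
  have H := (has_L (B := 4) (n := 3) (o := 168) (rg_prime 2 (by norm_num)) (il_fin 3 (by decide)) h (by decide) (by decide +kernel) (by decide)
    [mat 2 ([1] : List (ZMod 2)) Fin.val [[0, 1, 0], [1, 0, 0], [0, 0, 1]],
    mat 2 ([1] : List (ZMod 2)) Fin.val [[0, 0, 1], [0, 1, 0], [1, 0, 1]]] (two_mem (by simp only [Matrix.det_fin_three]; decide +kernel))).ext
    [[0], [1], [0], [1, 1]]
    [[4, 1, 16], [16, 4, 17], [4, 1, 16], [17, 4, 1]] (by decide +kernel)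
  exact ⟨H.tri [(1, 7, 5, [[1, 1, 0, 0, 0, 1], [0, 1, 1, 0]]),
    (4, 6, 4, [[0, 1, 0, 1, 1, 0], [1, 1, 1, 1, 0, 0, 1, 0, 1]]),
    (16, 4, 2, [])]
    (by norm_num) (by decide +kernel),
    H.cj [3, 0] [1, 2, 3, 2, 1, 0, 1, 0, 3] (by norm_num) (by decide +kernel)⟩

theorem dat_l2_8 (h : OrdDiv.Real (.psl 2 8) N) (ho : Nat.card N = 504) :
    Tri N 2 3 7 ∧ Cj N 7 6 ∧ SC N 7 := by
  have H := (has_L (B := 8) (n := 6) (o := 504) rg8 (il_fin 2 (by decide)) h (by decide) (by decide +kernel) (by decide)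
    [mat 2 (b3 2) Fin.val [[4, 4], [3, 4]],
    mat 2 (b3 2) Fin.val [[7, 2], [7, 6]]] (two_mem (by simp only [Matrix.det_fin_two]; decide +kernel))).ext
    [[0], [1], [0], [1, 1]]
    [[4672, 36873, 37448, 32832, 4617, 36936], [37449, 33345, 513, 36872, 37440, 33289], [4672, 36873, 37448, 32832, 4617, 36936], [37448, 33353, 577, 37384, 33344, 521]] (by decide +kernel)
  exact ⟨H.tri [(1, 63, 55, [[0, 1, 0, 1, 1, 0, 1, 1, 0, 1, 0, 0, 1, 0, 1, 0, 1, 1, 0, 1, 0], [1, 1, 0, 1, 1, 0, 0, 1, 0, 0, 1, 0, 1, 0, 0, 1, 0, 1], [0, 1, 0, 1, 1, 0, 1, 0, 1, 0, 1, 0, 1, 1, 0, 0, 1, 1]]),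
    (512, 8, 4, [])]
    (by norm_num) (by decide +kernel),
    H.sc [2, 1] [1, 2, 3, 2, 1, 2, 3, 0, 1, 0, 3, 0, 1, 0, 3] [0] [2] [1] [3] 5 7 (by norm_num) ho (by decide) (by decide)
    (by decide +kernel) (by decide +kernel) (by decide +kernel)⟩

theorem dat_l2_11 (h : OrdDiv.Real (.psl 2 11) N) :
    Tri N 2 3 11 ∧ Cj N 11 3 := by
  have H := (has_L (B := 256) (n := 2) (o := 1320) (rg_prime 11 (by norm_num)) (il_fin 2 (by decide)) h (by decide) (by decide +kernel) (by decide)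
    [mat 11 ([1] : List (ZMod 11)) Fin.val [[0, 3], [7, 0]],
    mat 11 ([1] : List (ZMod 11)) Fin.val [[0, 8], [4, 1]]] (two_mem (by simp only [Matrix.det_fin_two]; decide +kernel))).ext
    [[0], [1], [0, 0, 0], [1, 1, 1, 1, 1]]
    [[1792, 3], [1024, 264], [1024, 8], [1793, 3]] (by decide +kernel)
  exact ⟨H.tri [(1, 120, 114, [[0, 0, 1, 1, 1, 1, 1, 0]]),
    (256, 11, 10, [])]
    (by norm_num) (by decide +kernel),
    H.cj [2, 3] [3, 2, 3, 2, 1, 2, 1, 0, 1, 0, 1, 0, 1] (by norm_num) (by decide +kernel)⟩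

theorem dat_l2_13 (h : OrdDiv.Real (.psl 2 13) N) :
    Tri N 2 3 13 ∧ Cj N 13 4 := by
  have H := (has_L (B := 512) (n := 2) (o := 2184) (rg_prime 13 (by norm_num)) (il_fin 2 (by decide)) h (by decide) (by decide +kernel) (by decide)
    [mat 13 ([1] : List (ZMod 13)) Fin.val [[6, 7], [4, 7]],
    mat 13 ([1] : List (ZMod 13)) Fin.val [[9, 1], [5, 5]]] (two_mem (by simp only [Matrix.det_fin_two]; decide +kernel))).ext
    [[0], [1], [0, 0, 0], [1, 1, 1, 1, 1]]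
    [[2054, 3591], [2569, 2561], [4615, 3078], [4101, 4620]] (by decide +kernel)
  exact ⟨H.tri [(1, 168, 163, [[0, 0, 1, 1, 0, 1, 0, 1, 0, 1]]),
    (512, 13, 12, [])]
    (by norm_num) (by decide +kernel),
    H.cj [2, 1] [1, 2, 3, 2, 3, 2, 3, 2, 3, 0, 3, 0, 1, 0, 3] (by norm_num) (by decide +kernel)⟩

theorem dat_l2_16 (h : OrdDiv.Real (.psl 2 16) N) :
    (∃ c, Tri N 2 3 c) := by
  have H := (has_L (B := 16) (n := 8) (o := 4080) rg16 (il_fin 2 (by decide)) h (by decide) (by decide +kernel) (by decide)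
    [mat 2 b4 Fin.val [[15, 14], [14, 15]],
    mat 2 b4 Fin.val [[10, 11], [13, 11]]] (two_mem (by simp only [Matrix.det_fin_two]; decide +kernel))).ext
    [[0], [1], [0], [1, 1]]
    [[286265617, 17891585, 16842753, 269484048, 286331152, 16843025, 65793, 1052688], [285282320, 17830161, 268501009, 286261249, 269553681, 285282561, 17891601, 268505089], [286265617, 17891585, 16842753, 269484048, 286331152, 16843025, 65793, 1052688], [285282321, 17830145, 268501265, 286265345, 269488145, 286331137, 1114385, 69633]] (by decide +kernel)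
  exact H.any [(1, 255, 247, [[0, 1, 0, 1, 0, 1, 1, 0, 1, 0, 1, 1, 0, 1, 1, 0, 1, 0, 0, 1, 1, 0, 0], [1, 1, 0, 1, 1, 0, 1, 0, 1, 0, 1, 1, 0, 1, 0, 1, 0, 1, 0, 1, 0, 1, 0, 1, 0, 1, 0, 1, 0, 1], [0, 1, 0, 1, 0, 1, 0, 1, 0, 1, 0, 1, 1, 0, 1, 0, 1, 0, 1, 0, 1, 1, 0, 0, 0, 0], [1, 0, 1, 1, 0, 1, 0, 1, 0, 0, 0, 0, 1, 0, 1, 0, 1, 1, 0, 0, 0, 0, 0, 0]]),
    (65536, 16, 7, [])]
    (by decide +kernel)

theorem dat_l2_17 (h : OrdDiv.Real (.psl 2 17) N) :
    Tri N 2 3 17 ∧ Cj N 17 2 := by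
  have H := (has_L (B := 1024) (n := 2) (o := 4896) (rg_prime 17 (by norm_num)) (il_fin 2 (by decide)) h (by decide) (by decide +kernel) (by decide)
    [mat 17 ([1] : List (ZMod 17)) Fin.val [[2, 12], [1, 15]],
    mat 17 ([1] : List (ZMod 17)) Fin.val [[6, 15], [7, 12]]] (two_mem (by simp only [Matrix.det_fin_two]; decide +kernel))).ext
    [[0], [1], [0, 0, 0], [1, 1, 1, 1, 1]]
    [[1026, 15372], [7174, 12303], [16399, 2053], [10252, 6146]] (by decide +kernel)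
  exact ⟨H.tri [(1, 288, 284, [[0, 0, 0, 1, 0, 1, 0]]),
    (1024, 17, 16, [])]
    (by norm_num) (by decide +kernel),
    H.cj [3, 2] [1, 2, 1, 2, 3, 2, 1, 0, 1, 0, 1, 0, 1, 0, 3] (by norm_num) (by decide +kernel)⟩

theorem dat_l2_25 (h : OrdDiv.Real (.psl 2 25) N) :
    Tri N 2 3 13 ∧ Cj N 13 12 := by
  have H := (has_L (B := 128) (n := 4) (o := 15600) rg25 (il_fin 2 (by decide)) h (by decide) (by decide +kernel) (by decide)
    [mat 5 (b2 5 2 0) Fin.val [[2, 3], [0, 3]],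
    mat 5 (b2 5 2 0) Fin.val [[4, 5], [5, 2]]] (two_mem (by simp only [Matrix.det_fin_two]; decide +kernel))).ext
    [[0], [1], [0, 0, 0], [1, 1, 1, 1, 1]]
    [[2, 256, 49155, 6291840], [2097156, 33280, 32896, 4194306], [3, 384, 32770, 4194560], [8388610, 49408, 66048, 8388611]] (by decide +kernel)
  exact ⟨H.tri [(1, 624, 618, [[0, 0, 1, 1, 0, 1, 0, 1, 0, 1, 0, 1, 1, 0, 1, 0, 1, 0, 1, 1], [1, 1, 0, 1, 1, 0, 0, 0, 1, 0, 1, 0]]),
    (16384, 25, 16, [])]
    (by norm_num) (by decide +kernel),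
    H.cj [0, 3] [3, 2, 3, 2, 1, 2, 1, 0, 3, 0, 3, 0, 1, 0, 1] (by norm_num) (by decide +kernel)⟩

theorem dat_l2_27 (h : OrdDiv.Real (.psl 2 27) N) :
    (∃ c, Tri N 2 3 c) := by
  have H := (has_L (B := 32) (n := 6) (o := 19656) rg27 (il_fin 2 (by decide)) h (by decide) (by decide +kernel) (by decide)
    [mat 3 (b3 3) Fin.val [[19, 2], [23, 11]],
    mat 3 (b3 3) Fin.val [[23, 10], [3, 15]]] (two_mem (by simp only [Matrix.det_fin_two]; decide +kernel))).ext
    [[0], [1], [0, 0, 0], [1, 1]]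
    [[68225025, 34668546, 33587264, 33619970, 32832, 1050624], [1050658, 33555490, 1082369, 35652609, 68190273, 33622048], [35685378, 69238785, 67174432, 67141633, 65568, 2098176], [2098240, 67110945, 2163714, 68225026, 34668578, 33588288]] (by decide +kernel)
  exact H.any [(1, 728, 725, [[1, 1, 0, 0, 0, 1, 1, 0, 1, 0, 1, 1, 0, 1, 0, 1, 0, 0, 1, 1], [0, 1, 1, 0, 1, 1, 0, 0, 0, 1, 0, 1, 0, 1, 1, 1, 1, 0], [1, 1, 0, 1, 0, 1, 0, 1, 1, 0, 1, 0, 1, 0, 1, 0, 1, 1, 0, 1, 0, 1, 1]]),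
    (32768, 27, 21, [])]
    (by decide +kernel)

theorem dat_l2_19 (h : OrdDiv.Real (.psl 2 19) N) :
    Cj N 19 4 := by
  have H := (has_L (B := 1024) (n := 2) (o := 6840) (rg_prime 19 (by norm_num)) (il_fin 2 (by decide)) h (by decide) (by decide +kernel) (by decide)
    [mat 19 ([1] : List (ZMod 19)) Fin.val [[1, 9], [4, 18]],
    mat 19 ([1] : List (ZMod 19)) Fin.val [[1, 15], [15, 17]]] (two_mem (by simp only [Matrix.det_fin_two]; decide +kernel))).ext
    [[0], [1], [0, 0, 0], [1, 1]]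
    [[4097, 18441], [15361, 17423], [15378, 1034], [4113, 1028]] (by decide +kernel)
  exact H.cj [1, 0, 3, 2, 3, 2] [3, 2, 3, 2, 1, 2, 1, 0, 1, 0, 1, 0] (by norm_num) (by decide +kernel)

theorem dat_l2_23 (h : OrdDiv.Real (.psl 2 23) N) :
    Cj N 23 2 := by
  have H := (has_L (B := 1024) (n := 2) (o := 12144) (rg_prime 23 (by norm_num)) (il_fin 2 (by decide)) h (by decide) (by decide +kernel) (by decide)
    [mat 23 ([1] : List (ZMod 23)) Fin.val [[18, 10], [14, 4]],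
    mat 23 ([1] : List (ZMod 23)) Fin.val [[0, 22], [1, 5]]] (two_mem (by simp only [Matrix.det_fin_two]; decide +kernel))).ext
    [[0], [1], [0, 0], [1, 1, 1, 1, 1, 1, 1]]
    [[14354, 4106], [1024, 5142], [9220, 18445], [22533, 1]] (by decide +kernel)
  exact H.cj [2, 1] [1, 2, 3, 2, 3, 2] (by norm_num) (by decide +kernel)

theorem dat_l2_29 (h : OrdDiv.Real (.psl 2 29) N) :
    Cj N 29 4 := by
  have H := (has_L (B := 2048) (n := 2) (o := 24360) (rg_prime 29 (by norm_num)) (il_fin 2 (by decide)) h (by decide) (by decide +kernel) (by decide)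
    [mat 29 ([1] : List (ZMod 29)) Fin.val [[13, 17], [8, 15]],
    mat 29 ([1] : List (ZMod 29)) Fin.val [[1, 23], [7, 17]]] (two_mem (by simp only [Matrix.det_fin_two]; decide +kernel))).ext
    [[0], [1], [0, 0], [1, 1, 1, 1, 1, 1]]
    [[16397, 30737], [14337, 34839], [43023, 26636], [45073, 2054]] (by decide +kernel)
  exact H.cj [3, 3, 1, 0, 3, 2, 3, 3, 0] [3, 2, 1, 0, 3] (by norm_num) (by decide +kernel)

theorem dat_l2_31 (h : OrdDiv.Real (.psl 2 31) N) :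
    Cj N 31 7 := by
  have H := (has_L (B := 2048) (n := 2) (o := 29760) (rg_prime 31 (by norm_num)) (il_fin 2 (by decide)) h (by decide) (by decide +kernel) (by decide)
    [mat 31 ([1] : List (ZMod 31)) Fin.val [[17, 6], [16, 13]],
    mat 31 ([1] : List (ZMod 31)) Fin.val [[12, 1], [7, 11]]] (two_mem (by simp only [Matrix.det_fin_two]; decide +kernel))).ext
    [[0], [1], [0, 0], [1, 1, 1, 1, 1, 1, 1]]
    [[32785, 26630], [14348, 22529], [30733, 34841], [49163, 24606]] (by decide +kernel)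
  exact H.cj [1, 0] [3, 0, 1, 0, 3, 0, 1, 2] (by norm_num) (by decide +kernel)

theorem dat_l2_37 (h : OrdDiv.Real (.psl 2 37) N) :
    Cj N 37 3 := by
  have H := (has_L (B := 4096) (n := 2) (o := 50616) (rg_prime 37 (by norm_num)) (il_fin 2 (by decide)) h (by decide) (by decide +kernel) (by decide)
    [mat 37 ([1] : List (ZMod 37)) Fin.val [[20, 20], [5, 18]],
    mat 37 ([1] : List (ZMod 37)) Fin.val [[31, 4], [20, 5]]] (two_mem (by simp only [Matrix.det_fin_two]; decide +kernel))).ext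
    [[0], [1], [0, 0, 0, 0, 0], [1, 1]]
    [[20500, 73748], [81951, 20484], [131090, 81937], [69637, 127009]] (by decide +kernel)
  exact H.cj [0, 3, 0, 1, 2, 2, 2, 0, 3, 3, 0, 1] [1, 2, 1, 2, 3] (by norm_num) (by decide +kernel)

theorem dat_l2_41 (h : OrdDiv.Real (.psl 2 41) N) :
    Cj N 41 2 := by
  have H := (has_L (B := 4096) (n := 2) (o := 68880) (rg_prime 41 (by norm_num)) (il_fin 2 (by decide)) h (by decide) (by decide +kernel) (by decide)
    [mat 41 ([1] : List (ZMod 41)) Fin.val [[35, 12], [2, 30]],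
    mat 41 ([1] : List (ZMod 41)) Fin.val [[11, 33], [15, 19]]] (two_mem (by simp only [Matrix.det_fin_two]; decide +kernel))).ext
    [[0], [1], [0, 0, 0, 0, 0, 0, 0], [1, 1, 1, 1, 1, 1]]
    [[8227, 122892], [61451, 77857], [159774, 143389], [106515, 45064]] (by decide +kernel)
  exact H.cj [2, 3, 3, 0, 1, 2, 1, 0, 2, 2, 3, 3, 0, 1, 2, 1, 0, 2] [3, 3, 3, 0, 0, 3] (by norm_num) (by decide +kernel)

theorem dat_l2_43 (h : OrdDiv.Real (.psl 2 43) N) :
    Cj N 43 9 := by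
  have H := (has_L (B := 4096) (n := 2) (o := 79464) (rg_prime 43 (by norm_num)) (il_fin 2 (by decide)) h (by decide) (by decide +kernel) (by decide)
    [mat 43 ([1] : List (ZMod 43)) Fin.val [[30, 15], [33, 28]],
    mat 43 ([1] : List (ZMod 43)) Fin.val [[42, 17], [5, 0]]] (two_mem (by simp only [Matrix.det_fin_two]; decide +kernel))).ext
    [[0], [1], [0, 0, 0, 0, 0, 0], [1, 1]]
    [[135198, 114703], [20522, 17], [40988, 122908], [155648, 172058]] (by decide +kernel)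
  exact H.cj [3, 0, 3, 2] [2, 1, 0, 0, 0, 3, 0, 1] (by norm_num) (by decide +kernel)

theorem dat_l2_47 (h : OrdDiv.Real (.psl 2 47) N) :
    Cj N 47 2 := by
  have H := (has_L (B := 8192) (n := 2) (o := 103776) (rg_prime 47 (by norm_num)) (il_fin 2 (by decide)) h (by decide) (by decide +kernel) (by decide)
    [mat 47 ([1] : List (ZMod 47)) Fin.val [[25, 3], [22, 29]],
    mat 47 ([1] : List (ZMod 47)) Fin.val [[8, 35], [14, 32]]] (two_mem (by simp only [Matrix.det_fin_two]; decide +kernel))).ext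
    [[0], [1], [0, 0, 0, 0, 0, 0, 0], [1, 1, 1, 1, 1, 1, 1]]
    [[180249, 237571], [114696, 262179], [204829, 204844], [270368, 65548]] (by decide +kernel)
  exact H.cj [0, 1, 0, 1, 1] [2, 3, 0, 1, 1, 0] (by norm_num) (by decide +kernel)

end Cfsg.Agent.N2.Tg.L2
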