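import Cfsg.Agent.N2.Tri.Mat

/-!
# N2 (S3519): triples of `L₃(3)`, `L₃(4)`, `L₅(2)` (helper6)
-/

set_option autoImplicit false

namespace Cfsg.Agent.N2.Tg.L3

open Cfsg Cfsg.Agent.N2.Tg.Eng

variable {N : Type} [Group N]

theorem dat_l3_3 (h : OrdDiv.Real (.psl 3 3) N) (ho : Nat.card N = 5616) :
    Tri N 2 3 13 ∧ Cj N 13 3 ∧ SC N 13 := by
  have H := (has_L (B := 16) (n := 3) (o := 5616) (rg_prime 3 (by norm_num)) (il_fin 3 (by decide)) h (by decide) (by decide +kernel) (by decide)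
    [mat 3 ([1] : List (ZMod 3)) Fin.val [[2, 0, 0], [2, 2, 2], [2, 0, 1]],
    mat 3 ([1] : List (ZMod 3)) Fin.val [[2, 1, 2], [2, 0, 2], [0, 0, 1]]] (two_mem (by simp only [Matrix.det_fin_three]; decide +kernel))).ext
    [[0], [1], [0], [1, 1]]
    [[546, 32, 288], [34, 1, 290], [546, 32, 288], [16, 34, 258]] (by decide +kernel)
  exact ⟨H.tri [(1, 26, 24, [[0, 1, 1, 0, 1, 0, 1, 0, 1, 1], [0, 1, 1, 0, 1, 1, 0, 1, 0, 1, 0, 1, 0]]),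
    (16, 24, 20, [[0, 1, 0, 1, 1, 0, 1, 0, 0], [1, 0, 1, 1, 0, 0, 0]]),
    (256, 9, 6, [])]
    (by norm_num) (by decide +kernel),
    H.sc [3, 2] [1, 2, 3, 2, 3, 2, 3, 2, 3, 2, 3, 0, 1, 0, 3, 0, 3, 0, 1, 0, 3] [0] [2] [1] [3] 10 13 (by norm_num) ho (by decide) (by decide)
    (by decide +kernel) (by decide +kernel) (by decide +kernel)⟩

theorem dat_l3_4 (h : OrdDiv.Real (.psl 3 4) N) (ho : Nat.card N = 20160) :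
    Tri N 2 4 7 ∧ Cj N 7 2 ∧ SC N 7 := by
  have H := (has_L (B := 8) (n := 6) (o := 60480) rg4 (il_fin 3 (by decide)) h (by decide) (by decide +kernel) (by decide)
    [mat 2 (b2 2 1 1) Fin.val [[2, 1, 1], [3, 0, 1], [1, 2, 3]],
    mat 2 (b2 2 1 1) Fin.val [[3, 0, 0], [1, 3, 0], [1, 1, 3]]] (two_mem (by simp only [Matrix.det_fin_three]; decide +kernel))).ext
    [[0], [1], [0], [1, 1, 1, 1, 1, 1, 1, 1, 1, 1, 1]]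
    [[4680, 32841, 32769, 36872, 36929, 4616], [4169, 33281, 4672, 32832, 36864, 4096], [4680, 32841, 32769, 36872, 36929, 4616], [33352, 36937, 37376, 4672, 32768, 36864]] (by decide +kernel)
  exact ⟨H.tri [(1, 63, 57, [[0, 1, 1, 0, 1, 0, 1, 0, 1, 1, 0], [0, 1, 1, 1, 0, 1, 0, 1, 1, 0, 1]]),
    (64, 60, 52, [[0, 1, 1, 0, 1, 1, 1, 0, 0, 0, 0, 0, 0, 0, 0], [1, 0, 0, 0, 0, 1, 0, 1], [1, 0, 1, 0, 1, 0, 0, 0, 1, 0, 0, 0, 1, 1, 1, 0, 1, 0, 0], [0, 1, 0, 0, 1, 1, 1, 0, 0, 1, 1, 1, 1, 1, 1, 0, 1, 0, 1]]),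
    (4096, 16, 7, [])]
    (by norm_num) (by decide +kernel),
    H.sc [1, 0, 3, 2, 1] [3, 2, 3, 2, 1, 2, 1, 2, 3, 0, 1, 1, 0, 3, 0, 1, 1, 0] [0] [2] [1] [3] 504 721 (by norm_num) ho (by decide) (by decide)
    (by decide +kernel) (by decide +kernel) (by decide +kernel)⟩

theorem dat_l5_2 (h : OrdDiv.Real (.psl 5 2) N) :
    (∃ c, Tri N 2 3 c) ∧ Cj N 31 2 := by
  have H := (has_L (B := 8) (n := 5) (o := 9999360) (rg_prime 2 (by norm_num)) (il_fin 5 (by decide)) h (by decide) (by decide +kernel) (by decide)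
    [mat 2 ([1] : List (ZMod 2)) Fin.val [[0, 0, 0, 0, 1], [1, 1, 0, 0, 1], [0, 1, 1, 0, 1], [1, 0, 0, 1, 1], [1, 0, 0, 0, 0]],
    mat 2 ([1] : List (ZMod 2)) Fin.val [[0, 1, 0, 1, 0], [0, 1, 1, 1, 0], [1, 1, 0, 0, 1], [1, 0, 1, 0, 0], [1, 1, 1, 0, 0]]] (two_mem (by decide +kernel))).ext
    [[0], [1], [0], [1, 1]]
    [[4616, 72, 64, 512, 585], [4672, 4169, 4616, 9, 64], [4616, 72, 64, 512, 585], [4673, 4161, 4096, 521, 4616]] (by decide +kernel)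
  exact ⟨H.any [(1, 31, 29, [[1, 0, 1, 0, 1, 0, 1, 0, 1, 1], [0, 1, 1, 1, 1, 0, 1, 0, 0, 0, 0, 1, 0]]),
    (8, 30, 29, [[0, 0, 0, 1, 1, 1, 0, 0, 1, 0], [0, 0, 1, 0, 1, 0, 1, 1, 0, 0, 0]]),
    (64, 28, 23, [[1, 1, 1, 0, 1, 0, 1, 0, 1, 1, 0], [0, 1, 0, 1, 0, 0, 0, 1, 0, 0, 0, 1, 0], [1, 0, 1, 0, 1, 1, 0, 0, 0, 1, 1, 0, 0, 0, 0, 0, 0]]),
    (512, 24, 16, [[0, 0, 1, 0, 2, 1, 2, 1, 1, 0, 1, 2, 0, 2, 2, 1, 0, 0, 2], [0, 0, 0, 2, 1, 1, 1, 2, 2, 0, 0, 2, 1, 0, 0, 1, 2, 0], [0, 0, 2, 0], [2, 1, 1, 0, 1, 1, 1, 0, 1, 2, 0, 0, 2, 1]]),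
    (4096, 16, 7, [])]
    (by decide +kernel),
    H.cj [0, 1, 0, 3, 3, 2, 3, 1, 1, 2, 1, 0, 3, 0, 0, 2, 3] [3, 2, 3, 2, 3, 2, 3, 2, 3, 2, 1, 2, 1, 2, 1, 0, 1, 0, 3, 0, 3, 0, 1, 0, 1, 0, 1, 0, 3, 0] (by norm_num) (by decide +kernel)⟩

end Cfsg.Agent.N2.Tg.L3
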