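import Cfsg.Agent.N2.Tri.Mat

/-!
# N2 (S3519): triples of `S₆(2)`, `S₈(2)`, `S₆(3)` (helper6)
-/

set_option autoImplicit false

namespace Cfsg.Agent.N2.Tg.S6

open Cfsg Cfsg.Agent.N2.Tg.Eng

variable {N : Type} [Group N]

theorem dat_s6_2 (h : OrdDiv.Real (.psp 3 2) N) (ho : Nat.card N = 1451520) :
    Tri N 2 4 7 ∧ Cj N 7 3 ∧ SC N 7 := by
  have H := (has_S (B := 8) (n := 6) (o := 1451520) (rg_prime 2 (by norm_num)) (il_two 3 3 (by decide)) h (by decide +kernel)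
    [mat 2 ([1] : List (ZMod 2)) (ix2 3) [[1, 0, 0, 0, 0, 0], [1, 1, 0, 0, 0, 0], [0, 0, 1, 0, 0, 0], [0, 1, 0, 1, 1, 0], [1, 0, 0, 0, 1, 0], [0, 0, 1, 0, 0, 1]],
    mat 2 ([1] : List (ZMod 2)) (ix2 3) [[0, 1, 1, 0, 0, 1], [0, 0, 0, 1, 1, 1], [0, 1, 1, 1, 0, 1], [1, 0, 1, 0, 0, 0], [0, 1, 0, 0, 0, 0], [1, 0, 1, 1, 0, 1]]] (two_mem (by decide +kernel))).ext
    [[0], [1], [0], [1, 1, 1]]
    [[4105, 520, 32832, 512, 4608, 32768], [33280, 4161, 33345, 32840, 8, 32841], [4105, 520, 32832, 512, 4608, 32768], [33280, 4096, 33345, 36928, 73, 36929]] (by decide +kernel)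
  exact ⟨H.tri [(1, 63, 60, [[0, 1, 0, 1, 0, 0, 1, 0, 1, 1, 0, 1, 0, 1, 0, 1], [0, 1, 0, 1, 0, 1, 0, 1, 0, 1, 0, 0, 0, 1, 0, 0, 1, 1, 0, 1], [1, 0, 1]]),
    (512, 32, 28, [[2, 2], [2, 0, 0, 1, 0]]),
    (8, 15, 10, [[1, 1, 0, 1], [0, 1, 1, 0, 1, 0, 0, 1, 1, 0]]),
    (4096, 8, 4, [[1, 1, 1, 0, 1, 1, 0, 0, 0], [1, 1, 1, 0, 0, 1, 0, 0, 0, 1, 0]]),
    (64, 3, 1, [[0, 0, 1, 0, 1]]),
    (32768, 2, 1, [])]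
    (by norm_num) (by decide +kernel),
    H.sc [2, 1] [2, 3, 2, 3, 2, 3, 3, 2, 1, 2, 3, 3, 2, 3, 2, 1, 2, 3, 0, 1, 0, 1, 0, 1, 1, 0, 3, 0, 3, 0, 1, 1, 0, 1, 0, 3] [0] [2] [1] [3] 17847 25921 (by norm_num) ho (by decide) (by decide)
    (by decide +kernel) (by decide +kernel) (by decide +kernel)⟩

theorem dat_s8_2 (h : OrdDiv.Real (.psp 4 2) N) :
    (∃ c, Tri N 2 3 c) := by
  have H := (has_S (B := 16) (n := 8) (o := 47377612800) (rg_prime 2 (by norm_num)) (il_two 4 4 (by decide)) h (by decide +kernel)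
    [mat 2 ([1] : List (ZMod 2)) (ix2 4) [[1, 0, 0, 0, 0, 0, 0, 0], [1, 1, 0, 0, 0, 0, 0, 0], [1, 0, 1, 0, 0, 0, 0, 0], [1, 1, 1, 1, 0, 0, 0, 0], [0, 1, 0, 1, 1, 1, 1, 1], [1, 0, 0, 1, 0, 1, 0, 1], [0, 0, 0, 1, 0, 0, 1, 1], [1, 1, 1, 0, 0, 0, 0, 1]],
    mat 2 ([1] : List (ZMod 2)) (ix2 4) [[0, 0, 0, 0, 0, 0, 1, 0], [0, 0, 0, 0, 0, 1, 0, 1], [1, 1, 0, 1, 1, 0, 1, 0], [0, 1, 0, 1, 0, 1, 0, 1], [0, 0, 1, 0, 1, 0, 1, 0], [0, 1, 0, 0, 1, 0, 0, 1], [1, 1, 0, 1, 0, 0, 1, 0], [0, 1, 0, 1, 1, 1, 0, 0]]] (two_mem (by decide +kernel))).ext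
    [[0], [1], [0], [1, 1]]
    [[269488401, 268505104, 268439808, 17895424, 65536, 1114112, 16842752, 286326784], [16777472, 286265600, 65536, 285217024, 269549824, 268439568, 16843009, 1052688], [269488401, 268505104, 268439808, 17895424, 65536, 1114112, 16842752, 286326784], [16777473, 1052673, 269549824, 269484049, 256, 4112, 269549825, 269488144]] (by decide +kernel)
  exact H.any [(1, 255, 238, [[0, 1, 0, 1, 1, 0, 1, 0, 1, 0, 1, 1, 0], [1, 0, 1, 1, 0, 1, 0, 1, 0, 1, 0, 1, 1, 0, 1]]),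
    (65536, 128, 113, [[0, 0, 1, 0, 0, 1], [1, 0, 0, 1, 0, 0, 1, 1, 0]]),
    (16, 63, 59, [[1, 0, 1, 0, 1], [0, 1, 1, 0, 0, 1, 0, 1, 1, 1, 0, 1, 0]]),
    (1048576, 32, 28, [[0, 0, 1, 1, 1, 1, 0, 1, 1, 1], [0, 0, 0, 0, 1, 1, 1, 1, 0, 0, 0]]),
    (256, 15, 12, [[0, 0, 1], [0, 0, 0, 1, 0]]),
    (16777216, 8, 4, [[1, 0, 0, 0, 0], [1, 1, 0, 0, 1, 1]]),
    (4096, 3, 1, [[0, 0, 0, 0, 0, 1, 1]]),
    (268435456, 2, 1, [])]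
    (by decide +kernel)

theorem dat_s6_3 (h : OrdDiv.Real (.psp 3 3) N) :
    Tri N 2 3 13 ∧ Cj N 13 3 := by
  have H := (has_S (B := 32) (n := 6) (o := 9170703360) (rg_prime 3 (by norm_num)) (il_two 3 3 (by decide)) h (by decide +kernel)
    [mat 3 ([1] : List (ZMod 3)) (ix2 3) [[2, 0, 1, 2, 1, 1], [0, 2, 0, 1, 2, 0], [0, 0, 1, 1, 0, 2], [1, 1, 1, 1, 0, 0], [1, 0, 1, 0, 1, 0], [1, 1, 0, 2, 0, 2]],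
    mat 3 ([1] : List (ZMod 3)) (ix2 3) [[2, 2, 0, 2, 2, 0], [1, 0, 1, 1, 0, 0], [1, 0, 1, 0, 1, 1], [0, 1, 2, 0, 0, 0], [0, 1, 0, 1, 0, 0], [0, 0, 2, 0, 0, 0]]] (two_mem (by decide +kernel))).ext
    [[0], [1], [0, 0, 0], [1, 1, 1, 1, 1]]
    [[34635778, 33587264, 1082369, 67142690, 1048641, 67110913], [1058, 1081346, 67175456, 1048610, 1026, 1024], [69271553, 67174432, 2164738, 33622081, 2097186, 33555458], [35651584, 2097153, 33554432, 2162721, 33587202, 33589312]] (by decide +kernel)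
  exact ⟨H.tri [(1, 728, 722, [[0, 0, 1, 1, 0, 1, 0, 1, 1, 0, 1, 0, 0, 1, 1, 1, 0, 1, 0, 1, 0, 1, 0, 1, 0, 1], [0, 0, 1, 0, 1, 1, 0, 1, 0, 1, 1, 0, 1, 0, 1, 0, 1, 0, 0, 0, 1, 0, 0, 0, 1, 0, 1, 1]]),
    (32768, 243, 233, [[1, 1, 0, 1, 1, 1, 0, 0, 1, 1, 0, 0], [1, 1, 0, 1, 0]]),
    (32, 80, 74, [[0, 1, 1, 1], [1, 1, 0, 1, 0, 0, 0, 0, 1]]),
    (1048576, 27, 26, [[0, 1, 0, 1, 1, 0, 0, 1, 0], [1, 0, 0, 0, 0, 0]]),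
    (1024, 8, 6, [[1, 1, 0, 1]]),
    (33554432, 3, 2, [])]
    (by norm_num) (by decide +kernel),
    H.cj [3, 2] [1, 2, 1, 2, 3, 2, 1, 2, 1, 2, 1, 2, 1, 2, 1, 2, 3, 2, 3, 2, 1, 2, 3, 2, 3, 2, 1, 2, 3, 2, 1, 0, 3, 0, 3, 0, 1, 0, 1, 0, 3, 0, 1, 0, 1, 0, 3, 0, 1, 0, 1, 0, 3, 0, 1, 0, 3, 0, 1, 0, 1, 0, 3] (by norm_num) (by decide +kernel)⟩

end Cfsg.Agent.N2.Tg.S6
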