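import Cfsg.Agent.N2.Tri.Mat

/-!
# N2 (S3519): triples of `U₃(q)` (helper6)
-/

set_option autoImplicit false

namespace Cfsg.Agent.N2.Tg.U3

open Cfsg Cfsg.Agent.N2.Tg.Eng

variable {N : Type} [Group N]

theorem dat_u3_3 (h : OrdDiv.Real (.psu 3 3) N) (ho : Nat.card N = 6048) :
    Tri N 2 6 7 ∧ Cj N 7 2 ∧ SC N 7 := by
  have H := (has_U (B := 32) (n := 6) (o := 6048) (s := 1) rg9 (il_fin 3 (by decide)) (by norm_num) h (by decide) (by decide) (by decide +kernel)
    [mat 3 (b2 3 2 0) Fin.val [[1, 4, 6], [7, 0, 4], [3, 7, 1]],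
    mat 3 (b2 3 2 0) Fin.val [[5, 6, 3], [6, 3, 7], [3, 7, 3]]] (two_mem (by simp only [Matrix.det_fin_three]; decide +kernel))).ext
    [[0], [1], [0], [1, 1, 1, 1, 1]]
    [[33620993, 2130976, 68157473, 34603042, 1082432, 33589249], [33620002, 2098242, 68190272, 34605057, 33621024, 2130946], [33620993, 2130976, 68157473, 34603042, 1082432, 33589249], [67141698, 1050689, 34668576, 35652610, 67142720, 1083393]] (by decide +kernel)
  exact ⟨H.tri [(1, 252, 236, [[1, 1, 1, 0, 0, 1, 0, 1, 0, 1, 1], [1, 1, 0, 1, 0, 1, 0, 1, 0, 1, 0]]),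
    (1024, 24, 22, [])]
    (by norm_num) (by decide +kernel),
    H.sc [1, 2] [3, 2, 3, 2, 3, 2, 1, 1, 0, 1, 0, 3, 0] [0] [2] [1] [3] 136 217 (by norm_num) ho (by decide) (by decide)
    (by decide +kernel) (by decide +kernel) (by decide +kernel)⟩

theorem dat_u3_4 (h : OrdDiv.Real (.psu 3 4) N) :
    Tri N 2 3 13 ∧ Cj N 13 3 := by
  have H := (has_U (B := 16) (n := 12) (o := 62400) (s := 2) rg16 (il_fin 3 (by decide)) (by norm_num) h (by decide) (by decide) (by decide +kernel)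
    [mat 2 b4 Fin.val [[3, 8, 9], [10, 2, 6], [11, 7, 0]],
    mat 2 b4 Fin.val [[1, 5, 5], [12, 1, 2], [12, 3, 0]]] (two_mem (by simp only [Matrix.det_fin_three]; decide +kernel))).ext
    [[0], [1], [0], [1, 1]]
    [[17665469972497, 18696278966273, 1172527190272, 17596481077504, 1172527124480, 17596482130176, 17661173960721, 18764997333249, 17829889, 269553936, 286265617, 17891585], [18691982884865, 1099528405008, 18696277917952, 1168248934400, 73014509825, 4296019984, 18691714449424, 1099780063249, 1048833, 1118224, 268435472, 285212689], [17665469972497, 18696278966273, 1172527190272, 17596481077504, 1172527124480, 17596482130176, 17661173960721, 18764997333249, 17829889, 269553936, 286265617, 17891585], [1099528404993, 17592454479888, 1168248930560, 17665470042112, 68719546641, 73015492865, 17592202821633, 18691966107664, 1118481, 65793, 285212673, 16777232]] (by decide +kernel)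
  exact ⟨H.tri [(1, 1040, 1034, [[1, 1, 0, 1, 0, 1, 1, 0, 1, 0, 1, 0, 0, 1, 1, 0, 1, 0, 1, 0, 1, 0, 1, 1, 0, 1], [0, 1, 0, 1, 1, 0, 1, 0, 1, 0, 1, 0, 1, 1, 0, 1, 0, 1, 0, 1, 0, 1, 0, 1]]),
    (65536, 60, 40, [])]
    (by norm_num) (by decide +kernel),
    H.cj [0, 1] [1, 2, 3, 2, 3, 2, 3, 2, 1, 2, 1, 2, 3, 2, 1, 2, 1, 0, 3, 0, 1, 0, 1, 0, 3, 0, 1, 0, 1, 0, 1, 0, 3] (by norm_num) (by decide +kernel)⟩

theorem dat_u3_5 (h : OrdDiv.Real (.psu 3 5) N) :
    Tri N 2 5 7 ∧ Cj N 7 2 := by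
  have H := (has_U (B := 128) (n := 6) (o := 378000) (s := 1) rg25 (il_fin 3 (by decide)) (by norm_num) h (by decide) (by decide) (by decide +kernel)
    [mat 5 (b2 5 2 0) Fin.val [[12, 16, 23], [14, 6, 24], [7, 24, 0]],
    mat 5 (b2 5 2 0) Fin.val [[22, 18, 20], [8, 23, 7], [15, 16, 13]]] (two_mem (by simp only [Matrix.det_fin_three]; decide +kernel))).ext
    [[0], [1], [0, 0, 0, 0, 0], [1, 1, 1, 1]]
    [[34900869378, 69264802052, 138514809217, 138246389889, 8454659, 8438147], [103081361922, 274759939, 103356088707, 34634514817, 69526913536, 104157184003], [35169255810, 103618248961, 35441885572, 137977971201, 2163202, 8421635], [34363981954, 543228162, 137977971203, 69531107715, 103888732416, 103349813252]] (by decide +kernel)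
  exact ⟨H.tri [(35173499396, 3024, 3019, [[0, 0, 0, 1, 0, 1, 0, 1, 1, 0, 1, 1, 1, 1, 0, 1, 0, 1, 0], [1, 1, 1, 1, 0, 1, 1, 0, 1, 1, 0, 1, 0, 1, 0, 1, 0, 1, 1, 0]]),
    (1, 125, 117, [])]
    (by norm_num) (by decide +kernel),
    H.cj [0, 1, 0, 0] [1, 2, 1, 2, 1, 1, 2, 1, 2, 3, 0, 1, 0, 1, 1, 0, 3, 0, 3] (by norm_num) (by decide +kernel)⟩

end Cfsg.Agent.N2.Tg.U3
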