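import Cfsg.Agent.N2.Tri.U43

/-!
# N2 (S3519): the elements of order five of `U₄(3)` (helper10)
-/

set_option autoImplicit false

namespace Cfsg.Agent.N2.Tg.U43

open Cfsg Subgroup Cfsg.Agent.TwoF.XL.U43 Cfsg.Agent.MK.U43.GT

theorem cj5 : Cj M 5 2 := by
  have : Fact (Nat.Prime 5) := ⟨by norm_num⟩
  refine ⟨Wm [2, 0, 0, 2, 1, 2, 0, 0], orderOf_eq_prime ((Wm_pw _ 5).symm.trans (Wm_eq (l' := []) (by decide +kernel)))
    (Wm_ne (l' := []) (by decide +kernel)),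
    isConj_iff.2 ⟨Wm [0, 0, 0, 2, 1, 2, 1, 2, 0, 2, 1, 1, 2, 0, 2, 0, 2, 0, 2, 0, 2, 1], ?_⟩⟩
  rw [mul_inv_eq_iff_eq_mul, ← Wm_pw, ← Wm_append, ← Wm_append]
  exact Wm_eq (by decide +kernel)

theorem sc5 : SC M 5 := by
  have h : orderOf (rep 8) = 5 := ord_rep (by norm_num)
  refine ⟨rep 8, h, (eq_of_le_of_card_ge (zpowers_le.2 (mem_centralizer_singleton_iff.2 rfl)) ?_).ge⟩
  rw [Nat.card_zpowers, h]
  exact cent_le 8

/-- **`U₄(3)`, the prime five** -/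
theorem dat_u43' {N : Type} [Group N] (h : OrdDiv.Real (.psu 4 3) N) : Cj N 5 2 ∧ SC N 5 := by
  obtain ⟨F, _, _, hF, ⟨e⟩⟩ := h
  obtain ⟨e'⟩ := iso hF
  exact ⟨cj5.congr (e.trans e').symm, sc5.congr (e.trans e').symm⟩

end Cfsg.Agent.N2.Tg.U43
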