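import Cfsg.Agent.N2.Tri.Defs
import Cfsg.Agent.SB.Spor.Chain

/-!
# N2 (S3519): generating triples in a permutation model (helper85)
-/

set_option autoImplicit false

namespace Cfsg.Agent.N2.Tg.PE

open Subgroup Cfsg.Agent.SB.Spor

/-- put the tables of the words `codes` in front of the environment -/
noncomputable def ext (lk : ℕ → ℕ → ℕ) (mk : (ℕ → ℕ) → ℕ) (codes : List ℕ) : List ℕ → (List ℕ → Bool) → Bool :=
  List.rec (fun E k => k E) (fun c _ ih E k => decF lk E (fun f => frc (mk f) fun t => ih (t :: E) k) (nat_lit 200) c idf) codes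

/-- `x ^ a = y ^ b = (x y) ^ c = 1` on the base, and the group generated by `x`, `y` has at least `N` elements -/
noncomputable def triChk (lk : ℕ → ℕ → ℕ) (mk : (ℕ → ℕ) → ℕ) (n N : ℕ) (E0 : List ℕ) (cx cy a b c : ℕ) (codes : List ℕ)
    (levels : List (ℕ × List ℕ)) : Bool :=
  decF lk E0 (fun fx => frc (mk fx) fun tx => decF lk E0 (fun fy => frc (mk fy) fun ty =>
    cnd (eqB (levels.map Prod.fst) (itr (lk tx) a) idf) (cnd (eqB (levels.map Prod.fst) (itr (lk ty) b) idf)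
      (cnd (eqB (levels.map Prod.fst) (itr (fun q => lk tx (lk ty q)) c) idf)
        (ext lk mk codes [ty, tx] fun E => Nat.ble N (chain lk E n (fun _ => true) levels [])) false) false) false)
    (nat_lit 200) cy idf) (nat_lit 200) cx idf

variable {G : Type*} [Group G] {n : ℕ} {M : PM G n} {lk : ℕ → ℕ → ℕ} {mk : (ℕ → ℕ) → ℕ}
  {ver : (ℕ → ℕ) → ℕ → (ℕ → ℕ) → Bool}

theorem ext_spec (hT : M.Tab lk mk ver) {S : Subgroup G} (codes : List ℕ) (k : List ℕ → Bool) :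
    ∀ E : List ℕ, (∀ t ∈ E, ∃ g ∈ S, M.Rf g (lk t)) → ext lk mk codes E k = true →
      ∃ E' : List ℕ, (∀ t ∈ E', ∃ g ∈ S, M.Rf g (lk t)) ∧ k E' = true := by
  induction codes with
  | nil => exact fun E hE h => ⟨E, hE, h⟩
  | cons c codes ih =>
    intro E hE h
    obtain ⟨g, hg, f, h1, h2⟩ := decF_spec hE (fun f => frc (mk f) fun t => ext lk mk codes (t :: E) k) (nat_lit 200) c 1 idf
      (one_mem _) PM.rf_one
    have e : ext lk mk (c :: codes) E k = frc (mk f) fun t => ext lk mk codes (t :: E) k := h2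
    rw [e, frc_eq] at h
    refine ih _ (fun t ht => ?_) h
    rcases List.mem_cons.1 ht with rfl | ht
    exacts [⟨g, hg, hT.mk_spec g f h1⟩, hE t ht]

theorem gen_of_chk [Finite G] (hT : M.Tab lk mk ver) {E0 : List ℕ} (hE : AllIn M lk E0) {N : ℕ} (hN : Nat.card G ≤ N)
    {cx cy a b c : ℕ} {codes : List ℕ} {levels : List (ℕ × List ℕ)}
    (h : triChk lk mk n N E0 cx cy a b c codes levels = true) :
    ∃ x y : G, x ^ a = 1 ∧ y ^ b = 1 ∧ (x * y) ^ c = 1 ∧ closure ({x, y} : Set G) = ⊤ := by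
  unfold triChk at h
  obtain ⟨x, -, fx, hx, e1⟩ := decF_spec hE.top _ (nat_lit 200) cx 1 idf (mem_top _) PM.rf_one
  rw [e1, frc_eq] at h
  obtain ⟨y, -, fy, hy, e2⟩ := decF_spec hE.top _ (nat_lit 200) cy 1 idf (mem_top _) PM.rf_one
  rw [e2, frc_eq] at h
  have hx' := hT.mk_spec x fx hx
  have hy' := hT.mk_spec y fy hy
  obtain ⟨h1, h⟩ := cnd_and h
  obtain ⟨h2, h⟩ := cnd_and h
  obtain ⟨h3, h⟩ := cnd_and h
  obtain ⟨E, h4, h5⟩ := ext_spec hT (S := closure {x, y}) codes _ _ (fun t ht => by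
    rcases List.mem_cons.1 ht with rfl | ht
    · exact ⟨y, subset_closure (by simp), hy'⟩
    · exact ⟨x, subset_closure (by simp), List.mem_singleton.1 ht ▸ hx'⟩) h
  have h6 := chain_spec (H := closure {x, y}) h4 (okg := fun _ => true) (fun _ hg _ _ _ => hg) levels []
  rw [Fx_nil] at h6
  have h7 := (Nat.mul_le_mul_right _ (Nat.le_of_ble_eq_true h5)).trans h6
  have h8 : closure ({x, y} : Set G) = ⊤ := eq_top_of_le_card _
    (hN.trans ((Nat.le_mul_of_pos_right _ Nat.card_pos).trans h7))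
  rw [h8, card_top, top_inf_eq] at h7
  have h9 : Fx M (levels.map Prod.fst) = ⊥ := eq_bot_of_card_le _ (Nat.le_of_mul_le_mul_left
    ((h7.trans hN).trans (mul_one N).ge) (Nat.card_pos.trans_le hN))
  have key : ∀ {g : G} {f : ℕ → ℕ}, M.Rf g f → eqB (levels.map Prod.fst) f idf = true → g = 1 := fun {g f} hg he =>
    mem_bot.1 (h9 ▸ mem_Fx.2 fun b hb hn => (hg b hn).trans (of_eqB he b hb))
  exact ⟨x, y, key (hx'.pow a) h1, key (hy'.pow b) h2, key ((hx'.mul hy').pow c) h3, h8⟩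

theorem any_of_gen {a b c : ℕ} (h : ∃ x y : G, x ^ a = 1 ∧ y ^ b = 1 ∧ (x * y) ^ c = 1 ∧ closure ({x, y} : Set G) = ⊤) :
    ∃ c, Tri G a b c := by
  obtain ⟨x, y, h1, h2, -, h3⟩ := h
  exact ⟨_, x, y, h1, h2, rfl, h3⟩

theorem tri_of_gen {a b c : ℕ} (hc : c.Prime) (ha : 0 < a) (hG : a < Nat.card G)
    (h : ∃ x y : G, x ^ a = 1 ∧ y ^ b = 1 ∧ (x * y) ^ c = 1 ∧ closure ({x, y} : Set G) = ⊤) : Tri G a b c := by
  obtain ⟨x, y, h1, h2, h3, h4⟩ := h
  have : Fact c.Prime := ⟨hc⟩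
  refine ⟨x, y, h1, h2, orderOf_eq_prime h3 fun h5 => ?_, h4⟩
  have h6 : zpowers x = ⊤ := top_le_iff.1 (h4 ▸ (closure_le _).2 (by
    rintro _ (rfl | rfl)
    · exact mem_zpowers _
    · exact eq_inv_of_mul_eq_one_right h5 ▸ inv_mem (mem_zpowers x)))
  rw [← card_top, ← h6, Nat.card_zpowers] at hG
  exact absurd (orderOf_le_of_pow_eq_one ha h1) (not_le.2 hG)

end Cfsg.Agent.N2.Tg.PE
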